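import Groth.Agent.FlatDescent.RestrictFlat

/-!
# Change of base for flatness of modules at a point
-/

universe u

open CategoryTheory AlgebraicGeometry

namespace Groth.FlatDescent.SheafBC

variable {X Y S : Scheme.{u}}

/-- Flatness over `Y` at a point where `Y` is flat over `S` gives flatness over `S`. -/
theorem isFlatOverAt_comp (f : X ⟶ Y) (g : Y ⟶ S) (M : X.Modules) (x : X)
    (hg : (g.stalkMap (f x)).hom.Flat) (h : FlatMod.IsFlatOverAt f M x) : FlatMod.IsFlatOverAt (f ≫ g) M x := by
  letI := FlatMod.moduleStalkOver f M x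
  letI : Module (S.presheaf.stalk (g (f x))) (M.presheaf.stalk x) := FlatMod.moduleStalkOver (f ≫ g) M x
  letI : Algebra (S.presheaf.stalk (g (f x))) (Y.presheaf.stalk (f x)) := (g.stalkMap (f x)).hom.toAlgebra
  haveI : IsScalarTower (S.presheaf.stalk (g (f x))) (Y.presheaf.stalk (f x)) (M.presheaf.stalk x) :=
    IsScalarTower.of_algebraMap_smul fun r m => by
      show (f.stalkMap x) ((g.stalkMap (f x)) r) • m = ((f ≫ g).stalkMap x) r • m
      rw [Scheme.Hom.stalkMap_comp]
      rfl
  haveI : Module.Flat (S.presheaf.stalk (g (f x))) (Y.presheaf.stalk (f x)) := hg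
  haveI : Module.Flat (Y.presheaf.stalk (f x)) (M.presheaf.stalk x) := h
  exact Module.Flat.trans (S.presheaf.stalk (g (f x))) (Y.presheaf.stalk (f x)) (M.presheaf.stalk x)

/-- Flatness over a base is insensitive to open immersions of the base. -/
theorem isFlatOverAt_comp_iff (f : X ⟶ Y) (j : Y ⟶ S) [IsOpenImmersion j] (M : X.Modules) (x : X) :
    FlatMod.IsFlatOverAt (f ≫ j) M x ↔ FlatMod.IsFlatOverAt f M x := by
  have hb : Function.Bijective (j.stalkMap (f x)).hom := ConcreteCategory.bijective_of_isIso (j.stalkMap (f x))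
  refine ⟨fun h => ?_, isFlatOverAt_comp f j M x (RingHom.Flat.of_bijective hb)⟩
  letI := FlatMod.moduleStalkOver f M x
  letI : Module (S.presheaf.stalk (j (f x))) (M.presheaf.stalk x) := FlatMod.moduleStalkOver (f ≫ j) M x
  letI : Algebra (S.presheaf.stalk (j (f x))) (Y.presheaf.stalk (f x)) := (j.stalkMap (f x)).hom.toAlgebra
  haveI : IsScalarTower (S.presheaf.stalk (j (f x))) (Y.presheaf.stalk (f x)) (M.presheaf.stalk x) :=
    IsScalarTower.of_algebraMap_smul fun r m => by
      show (f.stalkMap x) ((j.stalkMap (f x)) r) • m = ((f ≫ j).stalkMap x) r • m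
      rw [Scheme.Hom.stalkMap_comp]
      rfl
  haveI : IsLocalization (⊥ : Submonoid (S.presheaf.stalk (j (f x)))) (Y.presheaf.stalk (f x)) := by
    have e : S.presheaf.stalk (j (f x)) ≃ₐ[S.presheaf.stalk (j (f x))] Y.presheaf.stalk (f x) :=
      AlgEquiv.ofBijective (Algebra.ofId _ _) hb
    haveI : IsLocalization (⊥ : Submonoid (S.presheaf.stalk (j (f x)))) (S.presheaf.stalk (j (f x))) :=
      IsLocalization.self (fun x hx => by rw [Submonoid.mem_bot.mp hx]; exact isUnit_one)
    exact IsLocalization.isLocalization_of_algEquiv ⊥ e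
  exact (Module.flat_iff_of_isLocalization (Y.presheaf.stalk (f x)) (⊥ : Submonoid (S.presheaf.stalk (j (f x))))
    (M.presheaf.stalk x)).mpr h

end Groth.FlatDescent.SheafBC
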