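import Mathlib
import Groth.Agent.QCohLib.TildeFlat
import Groth.Agent.FlatDescent.Local
import Groth.Prelude.Def_FlatCA

/-!
# Flatness of modules under base change, at primes
-/

universe u

open TensorProduct

namespace Groth.FlatDescent.SheafBC

/-- Flatness at a prime is stable under base change. -/
theorem flat_localized_baseChange {A A' B B' M : Type u} [CommRing A] [CommRing A'] [CommRing B] [CommRing B']
    [Algebra A A'] [Algebra A B] [Algebra A' B'] [Algebra B B'] [Algebra A B'] [IsScalarTower A A' B']
    [IsScalarTower A B B'] [Algebra.IsPushout A A' B B'] [AddCommGroup M] [Module A M] [Module B M]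
    [IsScalarTower A B M] (w : Ideal B') [w.IsPrime]
    [Module.Flat A (LocalizedModule (w.comap (algebraMap B B')).primeCompl M)] :
    Module.Flat A' (LocalizedModule w.primeCompl (B' ⊗[B] M)) := by
  let Q := w.comap (algebraMap B B')
  let MQ := LocalizedModule Q.primeCompl M
  let P := B' ⊗[B] MQ
  haveI : Module.Flat A' P :=
    Module.Flat.of_linearEquiv
      ((Algebra.IsPushout.cancelBaseChange A A' B B' MQ) : B' ⊗[B] MQ ≃ₗ[A'] A' ⊗[A] MQ)
  -- the localisation of `B' ⊗ M` at `w` is a localisation of `P`
  let f : M →ₗ[B] MQ := LocalizedModule.mkLinearMap Q.primeCompl M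
  let φ : B' ⊗[B] M →ₗ[B'] P := AlgebraTensorModule.lTensor B' B' f
  let L := LocalizedModule w.primeCompl P
  let g : P →ₗ[B'] L := LocalizedModule.mkLinearMap w.primeCompl P
  haveI : IsLocalizedModule w.primeCompl (g.comp φ) := by
    haveI hloc : IsLocalizedModule Q.primeCompl (φ.restrictScalars B) := by
      have : IsLocalizedModule Q.primeCompl (AlgebraTensorModule.rTensor B B' f) := inferInstance
      let c := TensorProduct.comm B M B'
      let c' := TensorProduct.comm B MQ B'
      haveI := IsLocalizedModule.of_linearEquiv Q.primeCompl (AlgebraTensorModule.rTensor B B' f) c'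
      haveI := IsLocalizedModule.of_linearEquiv_right Q.primeCompl
        (c'.toLinearMap.comp (AlgebraTensorModule.rTensor B B' f)) c.symm
      convert this using 1
      refine TensorProduct.ext' fun b m => ?_
      rfl
    constructor
    · exact IsLocalizedModule.map_units g
    · intro l
      obtain ⟨⟨p, s⟩, hp⟩ := IsLocalizedModule.surj w.primeCompl g l
      obtain ⟨⟨m, t⟩, hm⟩ := IsLocalizedModule.surj Q.primeCompl (φ.restrictScalars B) p
      have htw : algebraMap B B' (t : B) ∈ w.primeCompl := t.2
      refine ⟨⟨m, ⟨algebraMap B B' (t : B), htw⟩ * s⟩, ?_⟩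
      show ((⟨algebraMap B B' (t : B), htw⟩ * s : w.primeCompl) : B') • l = g (φ m)
      have hm' : algebraMap B B' (t : B) • p = φ m := (algebraMap_smul B' (t : B) p).trans hm
      have hp' : (s : B') • l = g p := hp
      rw [Submonoid.coe_mul, mul_smul, hp', ← map_smul, hm']
    · intro x y hxy
      obtain ⟨c, hc⟩ := IsLocalizedModule.exists_of_eq (S := w.primeCompl) (f := g) hxy
      have hc' : φ ((c : B') • x) = φ ((c : B') • y) := by rw [map_smul, map_smul]; exact hc
      obtain ⟨t, ht⟩ := IsLocalizedModule.exists_of_eq (S := Q.primeCompl) (f := φ.restrictScalars B) hc'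
      refine ⟨⟨algebraMap B B' (t : B), t.2⟩ * c, ?_⟩
      show (((⟨algebraMap B B' (t : B), t.2⟩ : w.primeCompl) * c : w.primeCompl) : B') • x =
        (((⟨algebraMap B B' (t : B), t.2⟩ : w.primeCompl) * c : w.primeCompl) : B') • y
      rw [Submonoid.coe_mul, mul_smul, mul_smul, algebraMap_smul, algebraMap_smul]
      exact ht
  haveI : Module.Flat A' L :=
    Groth.Agent.QCohLib.flat_of_isLocalizedModule_tower (R := A') (M := P) (M' := L) w.primeCompl g
  exact Module.Flat.of_linearEquiv ((IsLocalizedModule.iso w.primeCompl (g.comp φ)).restrictScalars A')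

/-- Tensoring with a flat module preserves flatness over a smaller ring. -/
theorem flat_tensor_of_flat {A R T M : Type u} [CommRing A] [CommRing R] [Algebra A R] [AddCommGroup T] [Module R T]
    [Module A T] [IsScalarTower A R T] [AddCommGroup M] [Module A M] [Module R M] [IsScalarTower A R M]
    [Module.Flat R T] [Module.Flat A M] : Module.Flat A (T ⊗[R] M) := by
  rw [Module.Flat.iff_lTensor_injective']
  intro K
  let f : M ⊗[A] K →ₗ[R] M ⊗[A] A := AlgebraTensorModule.lTensor R M K.subtype
  have hf : Function.Injective f :=
    Module.Flat.lTensor_preserves_injective_linearMap K.subtype Subtype.val_injective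
  have hT := Module.Flat.lTensor_preserves_injective_linearMap (M := T) f hf
  let eK := AlgebraTensorModule.assoc A R R T M K
  let eA := AlgebraTensorModule.assoc A R R T M A
  have h : ∀ z, eA (K.subtype.lTensor (T ⊗[R] M) z) = f.lTensor T (eK z) := by
    intro z
    induction z with
    | zero => simp
    | add a b ha hb => simp [map_add, ha, hb]
    | tmul a k =>
      induction a with
      | zero => simp
      | add u v hu hv =>
        simp only [LinearMap.lTensor_tmul, Submodule.coe_subtype] at hu hv
        simp [add_tmul, map_add, hu, hv]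
      | tmul t m => simp [eK, eA, f]
  intro a b hab
  exact eK.injective (hT (by rw [← h, ← h, hab]))

/-- Flatness over a smaller ring descends along a faithfully flat module. -/
theorem flat_of_flat_tensor {A R T M : Type u} [CommRing A] [CommRing R] [Algebra A R] [AddCommGroup T] [Module R T]
    [Module A T] [IsScalarTower A R T] [AddCommGroup M] [Module A M] [Module R M] [IsScalarTower A R M]
    [Module.FaithfullyFlat R T] [Module.Flat A (T ⊗[R] M)] : Module.Flat A M := by
  rw [Module.Flat.iff_lTensor_injective']
  intro K
  let f : M ⊗[A] K →ₗ[R] M ⊗[A] A := AlgebraTensorModule.lTensor R M K.subtype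
  refine (Module.FaithfullyFlat.lTensor_injective_iff_injective R T f).mp ?_
  let eK := AlgebraTensorModule.assoc A R R T M K
  let eA := AlgebraTensorModule.assoc A R R T M A
  have h : ∀ z, eA (K.subtype.lTensor (T ⊗[R] M) z) = f.lTensor T (eK z) := by
    intro z
    induction z with
    | zero => simp
    | add a b ha hb => simp [map_add, ha, hb]
    | tmul a k =>
      induction a with
      | zero => simp
      | add u v hu hv =>
        simp only [LinearMap.lTensor_tmul, Submodule.coe_subtype] at hu hv
        simp [add_tmul, map_add, hu, hv]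
      | tmul t m => simp [eK, eA, f]
  intro a b hab
  obtain ⟨a, rfl⟩ := eK.surjective a
  obtain ⟨b, rfl⟩ := eK.surjective b
  rw [← h, ← h] at hab
  exact congr_arg eK (Module.Flat.lTensor_preserves_injective_linearMap K.subtype Subtype.val_injective
    (eA.injective hab))

/-- Flatness over `A` at a prime is insensitive to a change of rings `B → B'` flat at the prime. -/
theorem flat_localized_iff_of_flat {A B B' M : Type u} [CommRing A] [CommRing B] [CommRing B'] [Algebra A B]
    [Algebra B B'] [Algebra A B'] [IsScalarTower A B B'] [AddCommGroup M] [Module A M] [Module B M]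
    [IsScalarTower A B M] (w : Ideal B') [w.IsPrime]
    (hw : Module.Flat B (LocalizedModule w.primeCompl B')) :
    Module.Flat A (LocalizedModule w.primeCompl (B' ⊗[B] M)) ↔
      Module.Flat A (LocalizedModule (w.comap (algebraMap B B')).primeCompl M) := by
  let Q := w.comap (algebraMap B B')
  let R := Localization.AtPrime Q
  let T := Localization.AtPrime w
  letI : Algebra R T := (Localization.localRingHom Q w (algebraMap B B') rfl).toAlgebra
  haveI : IsLocalHom (algebraMap R T) :=
    inferInstanceAs (IsLocalHom (Localization.localRingHom Q w (algebraMap B B') rfl))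
  haveI : IsScalarTower B R T := IsScalarTower.of_algebraMap_eq fun b => by
    rw [IsScalarTower.algebraMap_apply B B' T b]
    exact (Localization.localRingHom_to_map Q w (algebraMap B B') rfl b).symm
  haveI : Module.Flat B T := hw
  haveI : Module.Flat R T := (Module.flat_iff_of_isLocalization R Q.primeCompl T).mpr ‹_›
  haveI : Module.FaithfullyFlat R T := Module.FaithfullyFlat.of_flat_of_isLocalHom
  let MQ := LocalizedModule Q.primeCompl M
  haveI : IsScalarTower A R T := IsScalarTower.of_algebraMap_eq fun a => by
    rw [IsScalarTower.algebraMap_apply A B R a, ← IsScalarTower.algebraMap_apply B R T,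
      ← IsScalarTower.algebraMap_apply A B T]
  haveI : IsScalarTower A R MQ := IsScalarTower.of_algebraMap_smul fun a m => by
    rw [IsScalarTower.algebraMap_apply A B R a, algebraMap_smul, algebraMap_smul]
  let e₁ : LocalizedModule w.primeCompl (B' ⊗[B] M) ≃ₗ[A] T ⊗[B] M :=
    ((LocalizedModule.equivTensorProduct w.primeCompl (B' ⊗[B] M)).restrictScalars A).trans
      ((AlgebraTensorModule.cancelBaseChange B B' T T M).restrictScalars A)
  let b : R ⊗[B] M ≃ₗ[R] MQ := (LocalizedModule.equivTensorProduct Q.primeCompl M).symm
  let e₂ : T ⊗[R] MQ ≃ₗ[A] T ⊗[B] M :=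
    ((AlgebraTensorModule.congr (LinearEquiv.refl T T) b.symm).restrictScalars A).trans
      ((AlgebraTensorModule.cancelBaseChange B R T T M).restrictScalars A)
  let e := e₁.trans e₂.symm
  constructor
  · intro h
    haveI : Module.Flat A (T ⊗[R] MQ) := Module.Flat.of_linearEquiv e.symm
    exact flat_of_flat_tensor (R := R) (T := T)
  · intro h
    haveI : Module.Flat A MQ := h
    haveI : Module.Flat A (T ⊗[R] MQ) := flat_tensor_of_flat
    exact Module.Flat.of_linearEquiv e

end Groth.FlatDescent.SheafBC
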