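import Groth.Agent.FlatDescent.SheafBC.Base
import Groth.Agent.FlatDescent.SheafBC.Rings
import Groth.Agent.FlatDescent.RestrictFlat
import Groth.Agent.QCohLib.Pullback
import Groth.Agent.QCohLib.TildeFlat
import Groth.Agent.QCohLib.Affine

/-!
# Flatness of a pulled-back module in affine charts
-/

universe u

open AlgebraicGeometry CategoryTheory CategoryTheory.Limits TensorProduct Groth.Agent.QCohLib

namespace Groth.FlatDescent.SheafBC

theorem isFlatOverAt_tilde_iff_loc {A B : Type u} [CommRing A] [CommRing B] [Algebra A B]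
    (M : ModuleCat.{u} (CommRingCat.of B)) [Module A M] [IsScalarTower A B M] (w : PrimeSpectrum B) :
    FlatMod.IsFlatOverAt (Spec.map (CommRingCat.ofHom (algebraMap A B))) (tilde M) w ↔
      Module.Flat A (LocalizedModule w.asIdeal.primeCompl M) := by
  letI := stalkModuleBase (A := A) M w
  haveI : IsScalarTower A B ((tilde M).presheaf.stalk w) := IsScalarTower.of_algebraMap_smul fun _ _ => rfl
  refine (isFlatOverAt_tilde_iff M w).trans ?_
  exact (Module.Flat.equiv_iff ((@IsLocalizedModule.iso _ _ w.asIdeal.primeCompl _ _ _ _ _ _ (toStalkLinear M w)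
    (isLocalizedModule_toStalkLinear M w)).restrictScalars A)).symm

/-- Flatness of a module in an affine chart. -/
theorem isFlatOverAt_chart {X S : Scheme.{u}} (f : X ⟶ S) (F : X.Modules) {A B : Type u} [CommRing A] [CommRing B]
    [Algebra A B] (j : Spec (CommRingCat.of A) ⟶ S) [IsOpenImmersion j] (k : Spec (CommRingCat.of B) ⟶ X)
    [IsOpenImmersion k] (hj : k ≫ f = Spec.map (CommRingCat.ofHom (algebraMap A B)) ≫ j)
    (M : ModuleCat.{u} (CommRingCat.of B)) (eM : tilde M ≅ F.restrict k) [Module A M] [IsScalarTower A B M]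
    (v : PrimeSpectrum B) :
    FlatMod.IsFlatOverAt f F (k v) ↔ Module.Flat A (LocalizedModule v.asIdeal.primeCompl M) := by
  refine (isFlatOverAt_restrict (S := S) k f F v).symm.trans ?_
  rw [hj]
  have h1 := isFlatOverAt_comp_iff (Spec.map (CommRingCat.ofHom (algebraMap A B))) j (F.restrict k) v
  have h2 := isFlatOverAt_congr eM (Spec.map (CommRingCat.ofHom (algebraMap A B))) v
  exact (h1.trans h2.symm).trans (isFlatOverAt_tilde_iff_loc M v)

/-- Flatness of a pulled-back module in affine charts. -/
theorem isFlatOverAt_pullback_chart {X X' S' : Scheme.{u}} (h : X' ⟶ X) (f' : X' ⟶ S') (F : X.Modules)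
    {A' B B' : Type u} [CommRing A'] [CommRing B] [CommRing B'] [Algebra B B'] [Algebra A' B'] [SMulCommClass B A' B']
    (j : Spec (CommRingCat.of A') ⟶ S') [IsOpenImmersion j] (k : Spec (CommRingCat.of B) ⟶ X) [IsOpenImmersion k]
    (k' : Spec (CommRingCat.of B') ⟶ X') [IsOpenImmersion k']
    (hk : k' ≫ h = Spec.map (CommRingCat.ofHom (algebraMap B B')) ≫ k)
    (hj : k' ≫ f' = Spec.map (CommRingCat.ofHom (algebraMap A' B')) ≫ j)
    (M : ModuleCat.{u} (CommRingCat.of B)) (eM : tilde M ≅ F.restrict k) (w : PrimeSpectrum B') :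
    FlatMod.IsFlatOverAt f' ((Scheme.Modules.pullback h).obj F) (k' w) ↔
      Module.Flat A' (LocalizedModule w.asIdeal.primeCompl (B' ⊗[B] M)) := by
  let ψ : CommRingCat.of B ⟶ CommRingCat.of B' := CommRingCat.ofHom (algebraMap B B')
  let N := (ModuleCat.extendScalars ψ.hom).obj M
  let F' := (Scheme.Modules.pullback h).obj F
  let e : tilde N ≅ F'.restrict k' :=
    (pullbackTildeIso ψ).app M ≪≫ (Scheme.Modules.pullback (Spec.map ψ)).mapIso eM ≪≫
      pullbackRestrictIso h F (Spec.map ψ) k' k hk.symm
  letI : Module A' N := Module.compHom N (algebraMap A' B')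
  haveI : IsScalarTower A' B' N := IsScalarTower.of_algebraMap_smul fun _ _ => rfl
  refine (isFlatOverAt_chart f' F' j k' hj N e w).trans ?_
  let e₁ : (ModuleCat.restrictScalars ψ.hom).obj (ModuleCat.of B' B') ≃ₗ[B] B' :=
    { toFun := fun x => x
      map_add' := fun _ _ => rfl
      map_smul' := fun b x => (Algebra.smul_def (A := B') b x).symm
      invFun := fun x => x
      left_inv := fun _ => rfl
      right_inv := fun _ => rfl }
  let T₀ := TensorProduct.congr e₁ (LinearEquiv.refl B M)
  let T : N ≃+ B' ⊗[B] M :=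
    { toFun := fun n => T₀ n
      map_add' := fun x y => T₀.map_add x y
      invFun := fun z => T₀.symm z
      left_inv := fun n => T₀.symm_apply_apply n
      right_inv := fun z => T₀.apply_symm_apply z }
  have hT : ∀ (a : B') (n : N), T (a • n) = a • T n := by
    intro a
    let f₁ : N →+ B' ⊗[B] M := T.toAddMonoidHom.comp (DistribSMul.toAddMonoidHom N a)
    let f₂ : N →+ B' ⊗[B] M := (DistribSMul.toAddMonoidHom (B' ⊗[B] M) a).comp T.toAddMonoidHom
    suffices h : ∀ n, f₁ n = f₂ n from h
    intro n
    induction n using TensorProduct.induction_on with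
    | zero => exact (map_zero f₁).trans (map_zero f₂).symm
    | add x y hx hy => exact (map_add f₁ x y).trans ((congrArg₂ (· + ·) hx hy).trans (map_add f₂ x y).symm)
    | tmul x m => rfl
  let TB : N ≃ₗ[B'] B' ⊗[B] M := { T with map_smul' := hT }
  let f₁ := (LocalizedModule.mkLinearMap w.asIdeal.primeCompl (B' ⊗[B] M)).comp TB.toLinearMap
  haveI : IsLocalizedModule w.asIdeal.primeCompl f₁ :=
    IsLocalizedModule.of_linearEquiv_right w.asIdeal.primeCompl _ TB
  exact Module.Flat.equiv_iff ((IsLocalizedModule.iso w.asIdeal.primeCompl f₁).restrictScalars A')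

end Groth.FlatDescent.SheafBC
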