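import Groth.Agent.FlatDescent.SheafBC.Chart
import Groth.Agent.FlatDescent.Scheme
import Groth.Agent.FlatDescent.Point
import Groth.Agent.QCohLib.Sections
import Groth.Agent.QCohLib.Affine

/-!
# Flatness of quasi-coherent modules under base change and flat pullback
-/

universe u

open AlgebraicGeometry CategoryTheory CategoryTheory.Limits TensorProduct TopologicalSpace Groth.Agent.QCohLib

namespace Groth.FlatDescent.SheafBC

variable {X Y S S' : Scheme.{u}}

theorem exists_mem_affine_le {Z : Scheme.{u}} {z : Z} (O : Z.Opens) (h : z ∈ O) :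
    ∃ V : Z.Opens, IsAffineOpen V ∧ z ∈ V ∧ V ≤ O := by
  obtain ⟨_, ⟨V, hV, rfl⟩, hzV, hle⟩ := Z.isBasis_affineOpens.exists_subset_of_mem_open h O.2
  exact ⟨V, hV, hzV, hle⟩

/-- Flat base change at a point preserves and reflects flatness of modules. -/
theorem isFlatOverAt_pullback_iff (h : X ⟶ Y) (q : Y ⟶ S) (G : Y.Modules) [G.IsQuasicoherent] (x : X)
    (hflat : (h.stalkMap x).hom.Flat) :
    FlatMod.IsFlatOverAt q G (h x) ↔ FlatMod.IsFlatOverAt (h ≫ q) ((Scheme.Modules.pullback h).obj G) x := by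
  obtain ⟨V, hV, hxV, -⟩ := exists_mem_affine_le (⊤ : S.Opens) (z := q (h x)) trivial
  obtain ⟨U, hU, hxU, eU⟩ := exists_mem_affine_le (q ⁻¹ᵁ V) (z := h x) hxV
  obtain ⟨W, hW, hxW, eW⟩ := exists_mem_affine_le (h ⁻¹ᵁ U) (z := x) hxU
  have eW' : W ≤ (h ≫ q) ⁻¹ᵁ V := fun z hz => eU (eW hz)
  let A := Γ(S, V)
  let B := Γ(Y, U)
  let B' := Γ(X, W)
  letI : Algebra A B := (q.appLE V U eU).hom.toAlgebra
  letI : Algebra B B' := (h.appLE U W eW).hom.toAlgebra
  letI : Algebra A B' := ((h ≫ q).appLE V W eW').hom.toAlgebra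
  haveI : IsScalarTower A B B' := IsScalarTower.of_algebraMap_eq fun a => by
    change (h ≫ q).appLE V W eW' a = (h.appLE U W eW) (q.appLE V U eU a)
    rw [← CommRingCat.comp_apply, Scheme.Hom.appLE_comp_appLE]
  let M : ModuleCat.{u} (CommRingCat.of B) := ΓR (onSpec G hU)
  letI : Module A M := Module.compHom M (algebraMap A B)
  haveI : IsScalarTower A B M := IsScalarTower.of_algebraMap_smul fun _ _ => rfl
  let w := hW.primeIdealOf ⟨x, hxW⟩
  have hw : hW.fromSpec w = x := hW.fromSpec_primeIdealOf ⟨x, hxW⟩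
  have hv : hU.fromSpec (PrimeSpectrum.comap (algebraMap B B') w) = h x :=
    (congrArg (fun q : Spec (Γ(X, W)) ⟶ Y => q w) (IsAffineOpen.SpecMap_appLE_fromSpec (f := h) hU hW eW)).trans (congrArg h hw)
  have h1 := isFlatOverAt_chart q G hV.fromSpec hU.fromSpec
    (IsAffineOpen.SpecMap_appLE_fromSpec (f := q) hV hU eU).symm M (counitIso (onSpec G hU))
    (PrimeSpectrum.comap (algebraMap B B') w)
  have h2 := isFlatOverAt_pullback_chart h (h ≫ q) G hV.fromSpec hU.fromSpec hW.fromSpec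
    (IsAffineOpen.SpecMap_appLE_fromSpec (f := h) hU hW eW).symm
    (IsAffineOpen.SpecMap_appLE_fromSpec (f := h ≫ q) hV hW eW').symm M (counitIso (onSpec G hU)) w
  rw [hv] at h1
  rw [hw] at h2
  refine h1.trans (Iff.trans ?_ h2.symm)
  refine (flat_localized_iff_of_flat (A := A) w.asIdeal ?_).symm
  exact (flatOn_iff_flat (A := B) w.asIdeal.primeCompl (LocalizedModule.mkLinearMap w.asIdeal.primeCompl B')).mp
    ((flatOn_primeCompl_iff _).mpr ((flat_stalkMap_iff h hU hW eW hxW).mp hflat))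

/-- Flatness of modules at a point is stable under base change. -/
theorem isFlatOverAt_baseChange {X' : Scheme.{u}} (f : X ⟶ S) (f' : X' ⟶ S') (g' : X' ⟶ X) (g : S' ⟶ S)
    (hc : IsPullback g' f' f g) (F : X.Modules) [F.IsQuasicoherent] (x' : X')
    (h : FlatMod.IsFlatOverAt f F (g' x')) :
    FlatMod.IsFlatOverAt f' ((Scheme.Modules.pullback g').obj F) x' := by
  obtain ⟨V, hV, hxV, -⟩ := exists_mem_affine_le (⊤ : S.Opens) (z := f (g' x')) trivial
  obtain ⟨U, hU, hxU, eU⟩ := exists_mem_affine_le (f ⁻¹ᵁ V) (z := g' x') hxV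
  have hxV' : g (f' x') ∈ V := by
    rw [← Scheme.Hom.comp_apply, ← hc.w, Scheme.Hom.comp_apply]
    exact hxV
  obtain ⟨W, hW, hxW, eW⟩ := exists_mem_affine_le (g ⁻¹ᵁ V) (z := f' x') hxV'
  let O : X'.Opens := g' ⁻¹ᵁ U ⊓ f' ⁻¹ᵁ W
  have hxO : x' ∈ O := ⟨hxU, hxW⟩
  have hO : IsAffineOpen O := by
    haveI : IsAffine V.toScheme := hV
    haveI : IsAffine W := hW
    haveI : IsAffine U.toScheme := hU
    exact .of_isIso (Scheme.Hom.isPullback_resLE hc eW eU (rfl : O = _)).isoPullback.hom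
  have eg' : O ≤ g' ⁻¹ᵁ U := inf_le_left
  have ef' : O ≤ f' ⁻¹ᵁ W := inf_le_right
  let A := Γ(S, V)
  let A' := Γ(S', W)
  let B := Γ(X, U)
  let B' := Γ(X', O)
  letI : Algebra A B := (f.appLE V U eU).hom.toAlgebra
  letI : Algebra A A' := (g.appLE V W eW).hom.toAlgebra
  letI : Algebra B B' := (g'.appLE U O eg').hom.toAlgebra
  letI : Algebra A' B' := (f'.appLE W O ef').hom.toAlgebra
  letI : Algebra A B' := ((algebraMap A' B').comp (algebraMap A A')).toAlgebra
  haveI : IsScalarTower A A' B' := IsScalarTower.of_algebraMap_eq fun _ => rfl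
  haveI : IsScalarTower A B B' := IsScalarTower.of_algebraMap_eq fun a => by
    change f'.appLE W O ef' (g.appLE V W eW a) = g'.appLE U O eg' (f.appLE V U eU a)
    rw [← CommRingCat.comp_apply, ← CommRingCat.comp_apply, Scheme.Hom.appLE_comp_appLE, Scheme.Hom.appLE_comp_appLE]
    simp only [hc.w]
  have hpush := (isIso_pushoutSection_iff hc eW eU (rfl : O = _)).mp
    (isIso_pushoutSection_of_isAffineOpen hc eW eU (rfl : O = _) hV hW hU)
  haveI : Algebra.IsPushout A A' B B' := CommRingCat.isPushout_iff_isPushout.mp hpush.flip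
  let M : ModuleCat.{u} (CommRingCat.of B) := ΓR (onSpec F hU)
  letI : Module A M := Module.compHom M (algebraMap A B)
  haveI : IsScalarTower A B M := IsScalarTower.of_algebraMap_smul fun _ _ => rfl
  let w := hO.primeIdealOf ⟨x', hxO⟩
  have hw : hO.fromSpec w = x' := hO.fromSpec_primeIdealOf ⟨x', hxO⟩
  have hv : hU.fromSpec (PrimeSpectrum.comap (algebraMap B B') w) = g' x' :=
    (congrArg (fun q : Spec (Γ(X', O)) ⟶ X => q w) (IsAffineOpen.SpecMap_appLE_fromSpec (f := g') hU hO eg')).trans (congrArg g' hw)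
  have h1 := isFlatOverAt_chart f F hV.fromSpec hU.fromSpec
    (IsAffineOpen.SpecMap_appLE_fromSpec (f := f) hV hU eU).symm M (counitIso (onSpec F hU))
    (PrimeSpectrum.comap (algebraMap B B') w)
  haveI : SMulCommClass B A' B' := ⟨fun b a c => by simp only [Algebra.smul_def]; ring⟩
  have h2 := isFlatOverAt_pullback_chart g' f' F hW.fromSpec hU.fromSpec hO.fromSpec
    (IsAffineOpen.SpecMap_appLE_fromSpec (f := g') hU hO eg').symm
    (IsAffineOpen.SpecMap_appLE_fromSpec (f := f') hW hO ef').symm M (counitIso (onSpec F hU)) w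
  rw [hv] at h1
  rw [hw] at h2
  haveI : Module.Flat A (LocalizedModule (w.asIdeal.comap (algebraMap B B')).primeCompl M) := h1.mp h
  exact h2.mpr (flat_localized_baseChange (A := A) w.asIdeal)

/-- Flatness of modules at a point descends along a base change flat at the point. -/
theorem isFlatOverAt_of_baseChange {X' : Scheme.{u}} (f : X ⟶ S) (f' : X' ⟶ S') (g' : X' ⟶ X) (g : S' ⟶ S)
    (hc : IsPullback g' f' f g) (F : X.Modules) [F.IsQuasicoherent] (x' : X') (hg : (g.stalkMap (f' x')).hom.Flat)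
    (h : FlatMod.IsFlatOverAt f' ((Scheme.Modules.pullback g').obj F) x') :
    FlatMod.IsFlatOverAt f F (g' x') := by
  refine (isFlatOverAt_pullback_iff g' f F x' (flat_stalkMap_of_isPullback hc.flip x' hg)).mpr ?_
  rw [hc.w]
  exact isFlatOverAt_comp f' g _ x' hg h

end Groth.FlatDescent.SheafBC
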